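import Groth.Agent.Lib.StalkCoh13.Bc
import Groth.Agent.Lib.CBC10.Local
import Groth.Agent.Lib.ModM1.Stalk
import Groth.Agent.Lib.ModM1.Coh

/-!
# The stalk of a higher direct image is the cohomology over the local ring
-/

set_option autoImplicit false
set_option linter.style.haveILetI false
set_option backward.isDefEq.respectTransparency.types false
set_option maxHeartbeats 1000000

universe u

open CategoryTheory CategoryTheory.Limits AlgebraicGeometry TopologicalSpace Opposite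

noncomputable section

namespace Groth.Agent.StalkCoh13

open Groth.Agent.CBC10

variable {X Y : Scheme.{u}} (f : X ⟶ Y)

theorem nonempty_sectionsEquiv [QuasiCompact f] [QuasiSeparated f] [HasInjectiveResolutions X.Modules]
    {F : X.Modules} (hF : Coh.IsQCoh F) (p : ℕ) {U : Y.Opens} (hU : IsAffineOpen U) :
    letI := overU f hU
    Nonempty (Γ((Coh.Rpush f p).obj F, U) ≃ₗ[Γ(Y, U)]
      Coh.HH (f ⁻¹ᵁ U : X.Opens).toScheme (F.restrict (f ⁻¹ᵁ U).ι) p) := by
  letI := overU f hU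
  obtain ⟨i⟩ := nonempty_rpush_restrict_iso_tilde f hF p hU
  exact ⟨(M1.affineSecEquiv _ hU).symm.trans
    ((moduleSpecΓFunctor (R := CommRingCat.of Γ(Y, U))).mapIso i ≪≫ (tilde.isoTop _).symm).toLinearEquiv⟩

theorem nonempty_stalkEquiv [IsProper f] [HasInjectiveResolutions X.Modules] {F : X.Modules}
    (hF : Coh.IsQCoh F) (y : Y) (p : ℕ) {X₁ : Scheme.{u}}
    [X₁.Over (Spec (CommRingCat.of (Y.presheaf.stalk y)))] {g : X₁ ⟶ X}
    [((Coh.Rpush f p).obj F).IsQuasicoherent]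
    (hsq : IsPullback g (X₁ ↘ Spec (CommRingCat.of (Y.presheaf.stalk y))) f (Y.fromSpecStalk y)) :
    Nonempty (((Coh.Rpush f p).obj F).presheaf.stalk y ≃ₗ[Y.presheaf.stalk y]
      Coh.HH X₁ ((Scheme.Modules.pullback g).obj F) p) := by
  obtain ⟨_, ⟨U, hU, rfl⟩, hy, -⟩ :=
    Y.isBasis_affineOpens.exists_subset_of_mem_open (Set.mem_univ y) isOpen_univ
  letI := overU f hU
  haveI := isProper_overU f hU
  let X₀ : Scheme.{u} := (f ⁻¹ᵁ U : X.Opens)
  haveI : CompactSpace X₀ := QuasiCompact.compactSpace_of_compactSpace (X₀ ↘ Spec (CommRingCat.of Γ(Y, U)))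
  haveI : X₀.IsSeparated := ⟨by
    rw [← terminal.comp_from (X₀ ↘ Spec (CommRingCat.of Γ(Y, U)))]
    infer_instance⟩
  letI := TopCat.Presheaf.algebra_section_stalk Y.presheaf (⟨y, hy⟩ : U)
  haveI := hU.isLocalization_stalk ⟨y, hy⟩
  have H := isPullback_overU f hU
  let φ := Spec.map (CommRingCat.ofHom (algebraMap Γ(Y, U) (Y.presheaf.stalk y)))
  have hφ : Y.fromSpecStalk y = φ ≫ hU.fromSpec := by
    rw [← hU.fromSpecStalk_eq_fromSpecStalk hy]
    rfl
  let g₁ : X₁ ⟶ X₀ := H.lift g ((X₁ ↘ Spec (CommRingCat.of (Y.presheaf.stalk y))) ≫ φ)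
    (hsq.w.trans (by rw [hφ, Category.assoc]))
  have h1 : g₁ ≫ (f ⁻¹ᵁ U).ι = g := H.lift_fst _ _ _
  have h2 : g₁ ≫ (X₀ ↘ Spec (CommRingCat.of Γ(Y, U))) =
      (X₁ ↘ Spec (CommRingCat.of (Y.presheaf.stalk y))) ≫ φ := H.lift_snd _ _ _
  have hsq₁ : IsPullback g₁ (X₁ ↘ Spec (CommRingCat.of (Y.presheaf.stalk y)))
      (X₀ ↘ Spec (CommRingCat.of Γ(Y, U))) φ :=
    IsPullback.of_right (by rw [h1, ← hφ]; exact hsq) h2 H
  let S := (hU.primeIdealOf ⟨y, hy⟩).asIdeal.primeCompl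
  obtain ⟨lam, hlam⟩ := exists_isLocalizedModule_bc S hsq₁ (resU f F U) (M1.isQCoh_restrict hF _) p
  obtain ⟨θ⟩ := nonempty_sectionsEquiv f hF p hU
  let i : (Scheme.Modules.pullback g₁).obj (resU f F U) ≅ (Scheme.Modules.pullback g).obj F :=
    (Scheme.Modules.pullback g₁).mapIso ((Scheme.Modules.restrictFunctorIsoPullback (f ⁻¹ᵁ U).ι).app F) ≪≫
      (Scheme.Modules.pullbackComp g₁ (f ⁻¹ᵁ U).ι).app F ≪≫ (Scheme.Modules.pullbackCongr h1).app F
  let N := (Coh.Rpush f p).obj F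
  letI := M1.stalkModule N hy
  haveI := M1.isLocalizedModule_germ N hU hy
  haveI : IsScalarTower Γ(Y, U) (Y.presheaf.stalk y) (N.presheaf.stalk y) :=
    IsScalarTower.of_algebraMap_smul fun _ _ => rfl
  let M' := Coh.HH X₁ ((Scheme.Modules.pullback g₁).obj (resU f F U)) p
  letI : Module Γ(Y, U) M' := Module.compHom M' (algebraMap Γ(Y, U) (Y.presheaf.stalk y))
  haveI : IsScalarTower Γ(Y, U) (Y.presheaf.stalk y) M' :=
    IsScalarTower.of_algebraMap_smul fun _ _ => rfl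
  haveI : IsLocalizedModule S (lam ∘ₗ θ.toLinearMap) := inferInstance
  let e : N.presheaf.stalk y ≃ₗ[Γ(Y, U)] M' :=
    (IsLocalizedModule.iso S (M1.germₗ N hy)).symm.trans (IsLocalizedModule.iso S (lam ∘ₗ θ.toLinearMap))
  exact ⟨(e.extendScalarsOfIsLocalization S (Y.presheaf.stalk y)).trans
    (hmapLinEquiv (Y.presheaf.stalk y) i p)⟩

end Groth.Agent.StalkCoh13
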