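import Groth.Agent.Lib.DMod.Homology
import Mathlib.Algebra.Module.LocalizedModule.Basic

/-!
# The homology of a degreewise localized complex is the localized homology
-/

set_option autoImplicit false

universe u w

open CategoryTheory

namespace Groth.Agent.StalkCoh13

open Groth.Agent.DMod

variable {A : Type u} [CommRing A] {ι : Type w} {c : ComplexShape ι}
  {K L : HomologicalComplex (ModuleCat.{u} A) c} (S : Submonoid A)

theorem isLocalizedModule_homologyMap (f : K ⟶ L) (h : ∀ i, IsLocalizedModule S (f.f i).hom) (j : ι) :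
    IsLocalizedModule S (HomologicalComplex.homologyMap f j).hom := by
  have hi : c.prev j = c.prev j := rfl
  have hk : c.next j = c.next j := rfl
  have hinj : ∀ (i : ι) (s : S) (x : L.X i), (s : A) • x = 0 → x = 0 := fun i s x hx => by
    have := h i
    exact ((Module.End.isUnit_iff _).1 (IsLocalizedModule.map_units (f.f i).hom s)).1
      (hx.trans (map_zero _).symm)
  have hsur : ∀ (i : ι) (s : S) (x : L.X i), ∃ y, (s : A) • y = x := fun i s x => by
    have := h i
    exact ((Module.End.isUnit_iff _).1 (IsLocalizedModule.map_units (f.f i).hom s)).2 x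
  refine ⟨fun s => ?_, fun η => ?_, fun {x y} hxy => ?_⟩
  · rw [Module.End.isUnit_iff]
    refine ⟨(injective_iff_map_eq_zero _).2 fun η hη => ?_, fun η => ?_⟩
    · obtain ⟨z, rfl⟩ := homologyπ_surjective L j η
      rw [Module.algebraMap_end_apply, ← map_smul, homologyπ_eq_zero_iff hi] at hη
      obtain ⟨y, hy⟩ := hη
      obtain ⟨y', rfl⟩ := hsur _ s y
      rw [homologyπ_eq_zero_iff hi]
      refine ⟨y', sub_eq_zero.1 (hinj j s _ ?_)⟩
      rw [smul_sub, ← map_smul, hy, map_smul, sub_self]
    · obtain ⟨z, rfl⟩ := homologyπ_surjective L j η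
      obtain ⟨w, hw⟩ := hsur j s (L.iCycles j z)
      have hw0 : L.d j (c.next j) w = 0 := by
        refine hinj _ s _ ?_
        rw [← map_smul, hw, d_iCycles]
      obtain ⟨z', rfl⟩ := exists_cycle hk w hw0
      refine ⟨L.homologyπ j z', ?_⟩
      rw [Module.algebraMap_end_apply, ← map_smul]
      exact congrArg _ (iCycles_injective L j ((map_smul _ _ _).trans hw))
  · obtain ⟨z, rfl⟩ := homologyπ_surjective L j η
    have := h j
    have := h (c.next j)
    obtain ⟨⟨x, s⟩, hx⟩ := IsLocalizedModule.surj S (f.f j).hom (L.iCycles j z)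
    have hdx : (f.f (c.next j)).hom (K.d j (c.next j) x) = (f.f (c.next j)).hom 0 := by
      refine (ConcreteCategory.congr_hom (f.comm j (c.next j)) x).symm.trans ?_
      rw [map_zero]
      change L.d j (c.next j) ((f.f j).hom x) = 0
      rw [← hx, Submonoid.smul_def, map_smul, d_iCycles, smul_zero]
    obtain ⟨t, ht⟩ := IsLocalizedModule.exists_of_eq (S := S) hdx
    rw [smul_zero] at ht
    obtain ⟨z', hz'⟩ := exists_cycle (K := K) hk ((t : A) • x) ((map_smul _ _ _).trans ht)
    refine ⟨⟨K.homologyπ j z', t * s⟩, ?_⟩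
    change ((t * s : S) : A) • L.homologyπ j z = _
    rw [homologyMap_π, ← map_smul]
    refine congrArg _ (iCycles_injective L j ?_)
    rw [iCycles_cyclesMap, hz', map_smul, Submonoid.coe_mul, mul_smul]
    rw [Submonoid.smul_def] at hx
    exact (congrArg ((t : A) • ·) hx).trans (map_smul (f.f j).hom _ _).symm
  · obtain ⟨z, hz⟩ := homologyπ_surjective K j (x - y)
    have h0 : HomologicalComplex.homologyMap f j (K.homologyπ j z) = 0 := by
      rw [hz, map_sub]; exact sub_eq_zero.2 hxy
    rw [homologyMap_π, homologyπ_eq_zero_iff hi] at h0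
    obtain ⟨w, hw⟩ := h0
    rw [iCycles_cyclesMap] at hw
    have := h (c.prev j)
    have := h j
    obtain ⟨⟨v, s⟩, hv⟩ := IsLocalizedModule.surj S (f.f (c.prev j)).hom w
    have e : (f.f j).hom ((s : A) • K.iCycles j z) = (f.f j).hom (K.d (c.prev j) j v) := by
      refine Eq.trans ?_ (ConcreteCategory.congr_hom (f.comm (c.prev j) j) v)
      change _ = L.d (c.prev j) j ((f.f (c.prev j)).hom v)
      rw [← hv, Submonoid.smul_def, map_smul, map_smul, hw]
    obtain ⟨t, ht⟩ := IsLocalizedModule.exists_of_eq (S := S) e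
    refine ⟨t * s, sub_eq_zero.1 ?_⟩
    rw [Submonoid.smul_def, Submonoid.smul_def, ← smul_sub, ← hz, ← map_smul,
      homologyπ_eq_zero_iff hi]
    refine ⟨(t : A) • v, ?_⟩
    rw [Submonoid.smul_def, Submonoid.smul_def] at ht
    rw [map_smul, ← ht, map_smul, Submonoid.coe_mul, mul_smul]

end Groth.Agent.StalkCoh13
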