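import Groth.Agent.Lib.CBC10.Pullback
import Groth.Agent.Lib.StalkCoh13.LocHomology
import Mathlib.RingTheory.Localization.BaseChange

/-!
# Cohomology over a localized base is the localized cohomology
-/

set_option autoImplicit false
set_option linter.style.haveILetI false
set_option maxHeartbeats 1000000

universe u

open CategoryTheory CategoryTheory.Limits AlgebraicGeometry TopologicalSpace Opposite TensorProduct

noncomputable section

namespace Groth.Agent.StalkCoh13

open Groth.Agent.CBC10 Groth.Agent.DMod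

variable {A B : Type u} [CommRing A] [CommRing B] [Algebra A B]

/-- `x ↦ x ⊗ 1`. -/
def oneMap (K : CochainComplex (ModuleCat.{u} A) ℤ) : K ⟶ CohIII.tensorObj K (ModuleCat.of A B) where
  f i := ModuleCat.ofHom (Y := K.X i ⊗[A] B) ((TensorProduct.mk A (K.X i) B).flip 1)
  comm' i j _ := ModuleCat.hom_ext (LinearMap.ext fun x => rfl)

theorem isLocalizedModule_oneMap (S : Submonoid A) [IsLocalization S B]
    (K : CochainComplex (ModuleCat.{u} A) ℤ) (i : ℤ) :
    IsLocalizedModule S ((oneMap (B := B) K).f i).hom := by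
  change IsLocalizedModule S ((TensorProduct.mk A (K.X i) B).flip 1)
  have e : (TensorProduct.mk A (K.X i) B).flip 1 =
      (TensorProduct.comm A B (K.X i)).toLinearMap ∘ₗ TensorProduct.mk A B (K.X i) 1 :=
    LinearMap.ext fun x => rfl
  rw [e]
  infer_instance

theorem homologyMap_mulLeft_algebraMap (K : CochainComplex (ModuleCat.{u} A) ℤ) (p : ℤ) (a : A)
    (y : CohIII.T K p (ModuleCat.of A B)) :
    (CohIII.TFun K p).map (ModuleCat.ofHom (LinearMap.mulLeft A (algebraMap A B a))) y = a • y := by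
  have e : LinearMap.mulLeft A (algebraMap A B a) = a • (LinearMap.id : B →ₗ[A] B) :=
    LinearMap.ext fun b => by simp [Algebra.smul_def]
  rw [e]
  obtain ⟨z, rfl⟩ := homologyπ_surjective (CohIII.tensorObj K (ModuleCat.of A B)) p y
  refine (homologyMap_π (CohIII.tensorMap K _) p z).trans ?_
  refine Eq.trans (congrArg _ (iCycles_injective _ p ?_)) (map_smul _ a z)
  rw [iCycles_cyclesMap, map_smul]
  exact LinearMap.congr_fun ((LinearMap.lTensor_smul (K.X p) a LinearMap.id).trans
    (congrArg (a • ·) (LinearMap.lTensor_id (K.X p) B))) _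

theorem exists_isLocalizedModule_bc (S : Submonoid A) [IsLocalization S B] {X X' : Scheme.{u}}
    [X.Over (Spec (CommRingCat.of A))] [X'.Over (Spec (CommRingCat.of B))] {g : X' ⟶ X}
    [X.IsSeparated] [CompactSpace X]
    (hsq : IsPullback g (X' ↘ Spec (CommRingCat.of B)) (X ↘ Spec (CommRingCat.of A))
      (Spec.map (CommRingCat.ofHom (algebraMap A B))))
    (F : X.Modules) (hF : Coh.IsQCoh F) (p : ℕ) :
    letI := Module.compHom (Coh.HH X' ((Scheme.Modules.pullback g).obj F) p) (algebraMap A B)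
    ∃ f : Coh.HH X F p →ₗ[A] Coh.HH X' ((Scheme.Modules.pullback g).obj F) p, IsLocalizedModule S f := by
  letI := Module.compHom (Coh.HH X' ((Scheme.Modules.pullback g).obj F) p) (algebraMap A B)
  letI : X'.Over (Spec (CommRingCat.of A)) :=
    ⟨(X' ↘ Spec (CommRingCat.of B)) ≫ Spec.map (CommRingCat.ofHom (algebraMap A B))⟩
  have h : Sq (A := A) (B := B) g := ⟨hsq, rfl⟩
  have hg : IsAffineHom g := MorphismProperty.of_isPullback hsq.flip inferInstance
  obtain ⟨ι, _, U, hcov, hU₀⟩ := exists_finite_affine_cover X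
  have hU := isAffineOpen_tupOpen (U := U) hU₀
  obtain ⟨ε, hε⟩ := exists_bcEquiv (F := F) hg h hF
  let e₀ : CohIII.T (K A U F) (p : ℤ) (ModuleCat.of A B) ≃+ Coh.HH X' ((Scheme.Modules.pullback g).obj F) p :=
    (tEquiv hcov hU hF (ModuleCat.of A B) p).toAddEquiv.trans (ε p)
  let e₁ : CohIII.T (K A U F) (p : ℤ) (ModuleCat.of A B) ≃ₗ[A]
      Coh.HH X' ((Scheme.Modules.pullback g).obj F) p := e₀.toLinearEquiv fun a x => by
    rw [← homologyMap_mulLeft_algebraMap (B := B) (K A U F) p a x]
    exact (congrArg (ε p) (tEquiv_natural hcov hU hF _ p x)).trans (hε p (algebraMap A B a) _)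
  have hmap := isLocalizedModule_homologyMap S (oneMap (B := B) (K A U F))
    (isLocalizedModule_oneMap S (K A U F)) (p : ℤ)
  exact ⟨(e₁.toLinearMap ∘ₗ (HomologicalComplex.homologyMap (oneMap (B := B) (K A U F)) (p : ℤ)).hom) ∘ₗ
    (hhEquiv hcov (acyc_of_isQCoh hF hU) p).symm.toLinearMap, inferInstance⟩

end Groth.Agent.StalkCoh13
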